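import Groth.Agent.Lib.Unram.UnibranchEtale
import Groth.Agent.Lib.Unram.SmoothBranches
import Groth.Agent.Lib.Unram.UnibranchBirational
import Groth.Agent.Lib.SectTriv76.Main
import Groth.Agent.Lib.SourceDescent.Scheme

/-!
# Free actions of torsion-free groups on etale schemes over geometrically unibranch schemes
-/

set_option autoImplicit false
set_option linter.style.haveILetI false

noncomputable section

universe u

open CategoryTheory CategoryTheory.Limits AlgebraicGeometry

namespace Groth.Agent.Lib.UnibTriv76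

/-- Geometric unibranchness ascends along smooth morphisms. -/
theorem stalk_unibranch {X Y : Scheme.{u}} (f : X ⟶ Y) [Smooth f] (x : X)
    (hY : CAlg2.IsGeomUnibranch (Y.presheaf.stalk (f x))) : CAlg2.IsGeomUnibranch (X.presheaf.stalk x) := by
  obtain ⟨U, hU, hfxU, -⟩ := exists_isAffineOpen_mem_and_subset (x := f x) (U := (⊤ : Y.Opens)) trivial
  obtain ⟨V, hV, hxV, hVU⟩ := exists_isAffineOpen_mem_and_subset (x := x) (U := f ⁻¹ᵁ U) hfxU
  have hsm := HasRingHomProperty.appLE (P := @Smooth) f inferInstance ⟨U, hU⟩ ⟨V, hV⟩ hVU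
  letI := (f.appLE U V hVU).hom.toAlgebra
  haveI : Algebra.Smooth Γ(Y, U) Γ(X, V) := hsm
  rw [Unram.UnibranchBirational.isGeomUnibranch_stalk_iff hV hxV]
  rw [Unram.UnibranchBirational.isGeomUnibranch_stalk_iff hU hfxU] at hY
  exact Unram.SmoothBranches.isGeomUnibranch_smooth Γ(Y, U) Γ(X, V) _ _
    (congrArg PrimeSpectrum.asIdeal (IsAffineOpen.comap_primeIdealOf_appLE U hU V hV hVU hxV)) hY

/-- Components are open, over an irreducible base. -/
theorem isOpen_component {X Y : Scheme.{u}} (f : X ⟶ Y) [Flat f] [LocallyOfFinitePresentation f]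
    [IrreducibleSpace Y] (huniq : ∀ x : X, ∃! Z, Z ∈ irreducibleComponents ↥X ∧ x ∈ Z)
    (Z : Set X) (hZ : Z ∈ irreducibleComponents ↥X) : IsOpen Z := by
  refine isOpen_iff_forall_mem_open.mpr fun x hx => ?_
  obtain ⟨U, hU, hxU, -⟩ := exists_isAffineOpen_mem_and_subset (x := x) (U := (⊤ : X.Opens)) trivial
  have hfin : (irreducibleComponents (U : Type u)).Finite :=
    EtaPt.FlatComponents.finite_components_of_flat f
      (fun W _ => Unram.UnibranchEtale.finite_components_of_irreducible W) U hU.isCompact
  let bad : Set (U : Type u) := ⋃ C ∈ {C ∈ irreducibleComponents (U : Type u) | (⟨x, hxU⟩ : U) ∉ C}, C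
  have hbad : IsClosed bad := Set.Finite.isClosed_biUnion (hfin.subset fun C hC => hC.1)
    fun C hC => isClosed_of_mem_irreducibleComponents C hC.1
  refine ⟨Subtype.val '' badᶜ, ?_, U.isOpen.isOpenEmbedding_subtypeVal.isOpenMap _ hbad.isOpen_compl,
    ⟨⟨x, hxU⟩, ?_, rfl⟩⟩
  · rintro _ ⟨y, hy, rfl⟩
    let C := irreducibleComponent y
    have hxC : (⟨x, hxU⟩ : U) ∈ C := by
      by_contra h
      exact hy (Set.mem_iUnion₂.mpr ⟨C, ⟨irreducibleComponent_mem_irreducibleComponents y, h⟩,
        mem_irreducibleComponent⟩)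
    obtain ⟨Z'', hZ'', hsub⟩ : ∃ Z'' ∈ irreducibleComponents ↥X, Subtype.val '' C ⊆ Z'' :=
      exists_mem_irreducibleComponents_subset_of_isIrreducible (Subtype.val '' C)
        (isIrreducible_irreducibleComponent.image _ continuous_subtype_val.continuousOn)
    obtain ⟨Z₀, -, hZ₀⟩ := huniq x
    have : Z'' = Z := (hZ₀ Z'' ⟨hZ'', hsub ⟨_, hxC, rfl⟩⟩).trans (hZ₀ Z ⟨hZ, hx⟩).symm
    exact this ▸ hsub ⟨y, mem_irreducibleComponent, rfl⟩
  · intro hb
    obtain ⟨C, ⟨-, hC⟩, hxC⟩ := Set.mem_iUnion₂.mp hb
    exact hC hxC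

/-- Points with values in an algebraically closed field above a given point are finitely many. -/
theorem finite_points {E P : Scheme.{u}} (π : E ⟶ P) [Etale π] [IsSeparated π] (K : Type u) [Field K]
    (w : Spec (CommRingCat.of K) ⟶ P) (y : E) :
    {g : Spec (CommRingCat.of K) ⟶ E | g ≫ π = w ∧ ∀ t, g.base t = y}.Finite := by
  obtain ⟨V, hV, hyV, -⟩ := exists_isAffineOpen_mem_and_subset (x := y) (U := (⊤ : E.Opens)) trivial
  let W := pullback (V.ι ≫ π) w
  let q : W ⟶ Spec (CommRingCat.of K) := pullback.snd (V.ι ≫ π) w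
  haveI : IsAffine (V : Scheme.{u}) := hV
  haveI : QuasiCompact w := ⟨fun U _ _ => (Set.toFinite _).isCompact⟩
  haveI : CompactSpace W :=
    haveI : QuasiCompact (pullback.fst (V.ι ≫ π) w) := MorphismProperty.pullback_fst _ _ inferInstance
    QuasiCompact.compactSpace_of_compactSpace (pullback.fst (V.ι ≫ π) w)
  haveI : QuasiCompact q := quasiCompact_of_compactSpace q
  haveI : Etale q := MorphismProperty.pullback_snd _ _ inferInstance
  haveI : IsSeparated q := MorphismProperty.pullback_snd _ _ inferInstance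
  haveI := Groth.Agent.Lib.SourceDescent.Scheme.locallyQuasiFinite_of_etale q
  have hfin : (Set.univ : Set W).Finite :=
    (q.finite_preimage_singleton default).subset fun z _ => Subsingleton.elim (q.base z) default
  haveI : Finite W := Set.finite_univ_iff.1 hfin
  let secs := {s : Spec (CommRingCat.of K) ⟶ W // s ≫ q = 𝟙 _}
  haveI : Finite secs := Finite.of_injective (fun s : secs => s.1.base default) (by
    rintro ⟨s, hs⟩ ⟨s', hs'⟩ (h : s.base default = s'.base default)
    obtain ⟨_, _⟩ := SectTriv76.closed_open_of_section q s hs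
    have hr : Set.range s'.base ⊆ Set.range s.base := by
      rintro _ ⟨t, rfl⟩
      exact ⟨default, by rw [h, Subsingleton.elim t default]⟩
    have hl := IsOpenImmersion.lift_fac s s' hr
    have e1 := congrArg (· ≫ q) hl
    simp only [Category.assoc, hs, hs', Category.comp_id] at e1
    exact Subtype.ext (show s = s' by rw [← hl, e1, Category.id_comp]))
  refine (Set.finite_range fun s : secs => s.1 ≫ pullback.fst (V.ι ≫ π) w ≫ V.ι).subset ?_
  rintro g ⟨hg, hgy⟩
  have hr : Set.range g.base ⊆ Set.range V.ι.base := by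
    rw [Scheme.Opens.range_ι]
    rintro _ ⟨t, rfl⟩
    rw [hgy t]
    exact hyV
  refine ⟨⟨pullback.lift (IsOpenImmersion.lift V.ι g hr) (𝟙 _)
    (by rw [IsOpenImmersion.lift_fac_assoc, hg, Category.id_comp]), pullback.lift_snd _ _ _⟩, ?_⟩
  show pullback.lift _ _ _ ≫ pullback.fst _ _ ≫ V.ι = g
  rw [pullback.lift_fst_assoc, IsOpenImmersion.lift_fac]

variable {S P E : Scheme.{u}} (f : P ⟶ S) [Smooth f] [IrreducibleSpace S]
  (hS : ∀ s : S, CAlg2.IsGeomUnibranch (S.presheaf.stalk s))
  (π : E ⟶ P) [Etale π] [IsSeparated π] [Surjective π]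
  {Z : Type u} [Group Z] (hZ : ∀ z : Z, IsOfFinOrder z → z = 1)
  (τ : Z → (E ⟶ E)) (hτ : ∀ z, τ z ≫ π = π) (hmul : ∀ z z', τ (z * z') = τ z' ≫ τ z) (hone : τ 1 = 𝟙 E)
  (hfree : ∀ (K : Type u) [Field K] (g : Spec (CommRingCat.of K) ⟶ E) (z : Z), g ≫ τ z = g → z = 1)
  (htrans : ∀ (K : Type u) [Field K] (g g' : Spec (CommRingCat.of K) ⟶ E), g ≫ π = g' ≫ π → ∃ z, g ≫ τ z = g')

include f hS hZ hτ hmul hone hfree htrans in
/-- The map has a section. -/
theorem exists_section : ∃ s : P ⟶ E, s ≫ π = 𝟙 P := by
  classical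
  have hE : ∀ e : E, ∃! C, C ∈ irreducibleComponents ↥E ∧ e ∈ C := fun e =>
    Unram.UnibranchEtale.existsUnique_component e (stalk_unibranch (π ≫ f) e (hS _))
  have hP : ∀ x : P, ∃! D, D ∈ irreducibleComponents ↥P ∧ x ∈ D := fun x =>
    Unram.UnibranchEtale.existsUnique_component x (stalk_unibranch f x (hS _))
  have hcomp : ∀ (C : Set E), C ∈ irreducibleComponents ↥E → ∀ e ∈ C, C = irreducibleComponent e := fun C hC e he =>
    (hE e).unique ⟨hC, he⟩ ⟨irreducibleComponent_mem_irreducibleComponents e, mem_irreducibleComponent⟩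
  have hopen : ∀ e : E, IsOpen (irreducibleComponent e) := fun e =>
    isOpen_component (π ≫ f) hE _ (irreducibleComponent_mem_irreducibleComponents e)
  have hinv : ∀ z e, (τ z).base ((τ z⁻¹).base e) = e := fun z e => by
    have h := hmul z z⁻¹
    rw [mul_inv_cancel, hone] at h
    exact congr($h.symm e)
  -- translations permute the components
  have hmove : ∀ z e, (τ z).base '' irreducibleComponent e = irreducibleComponent ((τ z).base e) := by
    intro z e
    apply Set.Subset.antisymm
    · obtain ⟨C, hC, hsub⟩ := exists_mem_irreducibleComponents_subset_of_isIrreducible _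
        ((isIrreducible_irreducibleComponent (x := e)).image _ (τ z).continuous.continuousOn)
      rw [← hcomp C hC _ (hsub ⟨e, mem_irreducibleComponent, rfl⟩)]
      exact hsub
    · intro b hb
      refine ⟨(τ z⁻¹).base b, ?_, hinv z b⟩
      obtain ⟨C, hC, hsub⟩ := exists_mem_irreducibleComponents_subset_of_isIrreducible _
        ((isIrreducible_irreducibleComponent (x := (τ z).base e)).image _ (τ z⁻¹).continuous.continuousOn)
      have he : e ∈ C := hsub ⟨_, mem_irreducibleComponent, by simpa using hinv z⁻¹ e⟩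
      rw [← hcomp C hC e he]
      exact hsub ⟨b, hb, rfl⟩
  -- the stabiliser of a component is trivial
  have hstab : ∀ z e, (τ z).base e ∈ irreducibleComponent e → z = 1 := by
    intro z e hze
    obtain ⟨y, hy⟩ := QuasiSober.sober (isIrreducible_irreducibleComponent (x := e)) isClosed_irreducibleComponent
    have hC : (τ z).base '' irreducibleComponent e = irreducibleComponent e := by
      rw [hmove, ← hcomp _ (irreducibleComponent_mem_irreducibleComponents e) _ hze]
    have hzy : (τ z).base y = y := by
      have h := hy.image (τ z).continuous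
      rw [hC, isClosed_irreducibleComponent.closure_eq] at h
      exact h.eq hy
    let K : Type u := E.residueField y
    let g : Spec (CommRingCat.of K) ⟶ E := E.fromSpecResidueField y
    have hg : ∀ t, g.base t = y := fun t => Scheme.fromSpecResidueField_apply _ _
    have hpow : ∀ n : ℕ, (g ≫ τ (z ^ n)) ≫ π = g ≫ π ∧ ∀ t, (g ≫ τ (z ^ n)).base t = y := by
      intro n
      refine ⟨by rw [Category.assoc, hτ], fun t => ?_⟩
      show (τ (z ^ n)).base (g.base t) = y
      rw [hg]
      induction n with
      | zero => rw [pow_zero, hone]; rfl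
      | succ n ih => rw [pow_succ, hmul]; show (τ (z ^ n)).base ((τ z).base y) = y; rw [hzy, ih]
    haveI := (finite_points π K (g ≫ π) y).to_subtype
    obtain ⟨a, b, hab, heq⟩ := Finite.exists_ne_map_eq_of_infinite
      (fun n : ℕ => (⟨g ≫ τ (z ^ n), hpow n⟩ : {h : Spec (CommRingCat.of K) ⟶ E | h ≫ π = g ≫ π ∧ ∀ t, h.base t = y}))
    have key : ∀ a b : ℕ, a < b → g ≫ τ (z ^ a) = g ≫ τ (z ^ b) → z = 1 := by
      intro a b hlt he
      refine hZ z (isOfFinOrder_iff_pow_eq_one.2 ⟨b - a, Nat.sub_pos_of_lt hlt, hfree K g _ ?_⟩)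
      have h1 : g ≫ τ (z ^ (b - a)) ≫ τ (z ^ a) = g ≫ τ (z ^ a) := by
        rw [← hmul, ← pow_add, Nat.add_sub_cancel' hlt.le, he]
      have h2 : ∀ w : Z, τ w ≫ τ w⁻¹ = 𝟙 E := fun w => by rw [← hmul, inv_mul_cancel, hone]
      have := congrArg (· ≫ τ (z ^ a)⁻¹) h1
      simpa [h2] using this
    rcases lt_or_gt_of_ne hab with h | h
    · exact key a b h (congrArg Subtype.val heq)
    · exact key b a h (congrArg Subtype.val heq).symm
  -- points over the same point lie on translated components
  have hsame : ∀ a b : E, π.base a = π.base b → ∃ z, (τ z).base '' irreducibleComponent a = irreducibleComponent b := by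
    intro a b h
    obtain ⟨c, hc1, hc2⟩ := Scheme.Pullback.exists_preimage_pullback (f := π) (g := π) a b h
    let j := (pullback π π).fromSpecResidueField c
    obtain ⟨z, hz⟩ := htrans ((pullback π π).residueField c) (j ≫ pullback.fst π π) (j ≫ pullback.snd π π)
      (by rw [Category.assoc, Category.assoc, pullback.condition])
    refine ⟨z, ?_⟩
    have := congr($hz (IsLocalRing.closedPoint ((pullback π π).residueField c)))
    have hj : j.base (IsLocalRing.closedPoint ((pullback π π).residueField c)) = c := Scheme.fromSpecResidueField_apply _ _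
    replace this : (τ z).base ((pullback.fst π π).base (j.base (IsLocalRing.closedPoint ((pullback π π).residueField c)))) =
        (pullback.snd π π).base (j.base (IsLocalRing.closedPoint ((pullback π π).residueField c))) := this
    erw [hj, hc1, hc2] at this
    rw [hmove]
    exact congrArg irreducibleComponent this
  have himage : ∀ e : E, π.base '' irreducibleComponent e = irreducibleComponent (π.base e) := by
    intro e
    apply Set.Subset.antisymm
    · obtain ⟨D, hD, hsub⟩ := exists_mem_irreducibleComponents_subset_of_isIrreducible _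
        ((isIrreducible_irreducibleComponent (x := e)).image _ π.continuous.continuousOn)
      rw [(hP (π.base e)).unique ⟨irreducibleComponent_mem_irreducibleComponents _, mem_irreducibleComponent⟩
        ⟨hD, hsub ⟨e, mem_irreducibleComponent, rfl⟩⟩]
      exact hsub
    · intro x hx
      obtain ⟨e', rfl⟩ := π.surjective x
      have hx' : irreducibleComponent (π.base e) = irreducibleComponent (π.base e') :=
        (hP _).unique ⟨irreducibleComponent_mem_irreducibleComponents _, hx⟩
          ⟨irreducibleComponent_mem_irreducibleComponents _, mem_irreducibleComponent⟩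
      obtain ⟨x₀, -, ⟨a, ha, rfl⟩, ⟨b, hb, hab⟩⟩ :=
        (isIrreducible_irreducibleComponent (x := π.base e)).2 _ _ (π.isOpenMap _ (hopen e)) (π.isOpenMap _ (hopen e'))
          ⟨π.base e, mem_irreducibleComponent, e, mem_irreducibleComponent, rfl⟩
          ⟨π.base e', hx' ▸ mem_irreducibleComponent, e', mem_irreducibleComponent, rfl⟩
      obtain ⟨z, hz⟩ := hsame b a hab
      rw [← hcomp _ (irreducibleComponent_mem_irreducibleComponents _) a ha,
        ← hcomp _ (irreducibleComponent_mem_irreducibleComponents _) b hb] at hz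
      exact ⟨(τ z).base e', hz ▸ ⟨e', mem_irreducibleComponent, rfl⟩, congr($(hτ z) e')⟩
  choose σ hσ using π.surjective
  let ch : Set P → Set E := fun D => if h : D.Nonempty then irreducibleComponent (σ h.some) else ∅
  let O : E.Opens := ⟨{e | e ∈ ch (irreducibleComponent (π.base e))}, by
    refine isOpen_iff_forall_mem_open.mpr fun e he => ⟨irreducibleComponent e, fun b hb => ?_, hopen e, mem_irreducibleComponent⟩
    have hD : irreducibleComponent (π.base b) = irreducibleComponent (π.base e) :=
      (hP _).unique ⟨irreducibleComponent_mem_irreducibleComponents _, mem_irreducibleComponent⟩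
        ⟨irreducibleComponent_mem_irreducibleComponents _, himage e ▸ ⟨b, hb, rfl⟩⟩
    show b ∈ ch _
    simp only [ch, Set.mem_ofPred_eq] at he ⊢
    rw [hD]
    split_ifs at he ⊢ with h
    · rwa [hcomp _ (irreducibleComponent_mem_irreducibleComponents _) e he]
    · exact he.elim⟩
  have hch : ∀ x : P, ∃ e, π.base e = x ∧ e ∈ ch (irreducibleComponent x) := by
    intro x
    have hne : (irreducibleComponent x).Nonempty := ⟨x, mem_irreducibleComponent⟩
    have hx : x ∈ π.base '' irreducibleComponent (σ hne.some) := by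
      rw [himage, hσ, ← (hP hne.some).unique ⟨irreducibleComponent_mem_irreducibleComponents x, hne.some_mem⟩
        ⟨irreducibleComponent_mem_irreducibleComponents _, mem_irreducibleComponent⟩]
      exact mem_irreducibleComponent
    obtain ⟨e, he, rfl⟩ := hx
    exact ⟨e, rfl, by simp only [ch, dif_pos hne]; exact he⟩
  let φ : (O : Scheme.{u}) ⟶ P := O.ι ≫ π
  haveI : UniversallyInjective φ := ((tfae_universallyInjective φ).out 1 0).1 (by
    intro K _ g₁ g₂ hg
    obtain ⟨z, hz⟩ := htrans K (g₁ ≫ O.ι) (g₂ ≫ O.ι) (by simpa [φ] using hg)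
    let t := IsLocalRing.closedPoint K
    have h12 : (τ z).base (g₁.base t).1 = (g₂.base t).1 := congr($hz t)
    have hpt : π.base (g₁.base t).1 = π.base (g₂.base t).1 := congr($hg t)
    have h1 : (g₁.base t).1 ∈ ch (irreducibleComponent (π.base (g₁.base t).1)) := (g₁.base t).2
    have h2 : (g₂.base t).1 ∈ ch (irreducibleComponent (π.base (g₂.base t).1)) := (g₂.base t).2
    rw [← hpt, ← h12] at h2
    simp only [ch] at h1 h2
    split_ifs at h1 h2 with h
    · have hz1 : z = 1 := hstab z (g₁.base t).1 (by
        rwa [← hcomp _ (irreducibleComponent_mem_irreducibleComponents _) _ h1])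
      rw [hz1, hone, Category.comp_id] at hz
      exact (cancel_mono O.ι).1 hz
    · exact h1.elim)
  haveI : Surjective φ := ⟨fun x => by
    obtain ⟨e, he, he'⟩ := hch x
    exact ⟨⟨e, show e ∈ ch (irreducibleComponent (π.base e)) by rw [he]; exact he'⟩, he⟩⟩
  haveI : Surjective (pullback.diagonal φ) := (UniversallyInjective.iff_diagonal φ).1 inferInstance
  haveI := Groth.Agent.Lib.Unram.EtaleMono.isOpenImmersion_of_surjective_diagonal φ
  haveI : IsIso φ := (isIso_iff_isOpenImmersion_and_surjective φ).2 ⟨inferInstance, inferInstance⟩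
  exact ⟨inv φ ≫ O.ι, by rw [Category.assoc]; exact IsIso.inv_hom_id φ⟩

end Groth.Agent.Lib.UnibTriv76
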